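import Cfsg.Agent.H16.O.Fi24.D

/-! Generated by tools/h16 (computation kit). -/

set_option maxRecDepth 100000
set_option maxHeartbeats 0

namespace H16.OFi24

theorem cev_40 : allZ (cenEnt H16.TFi24.P V LLv Apv (nat_lit 16)) (nat_lit 261120) (nat_lit 6528) = true := by decide +kernel
theorem cev_41 : allZ (cenEnt H16.TFi24.P V LLv Apv (nat_lit 16)) (nat_lit 267648) (nat_lit 6528) = true := by decide +kernel
theorem cev_42 : allZ (cenEnt H16.TFi24.P V LLv Apv (nat_lit 16)) (nat_lit 274176) (nat_lit 6528) = true := by decide +kernel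
theorem cev_43 : allZ (cenEnt H16.TFi24.P V LLv Apv (nat_lit 16)) (nat_lit 280704) (nat_lit 6528) = true := by decide +kernel
theorem cev_44 : allZ (cenEnt H16.TFi24.P V LLv Apv (nat_lit 16)) (nat_lit 287232) (nat_lit 6528) = true := by decide +kernel
theorem cev_45 : allZ (cenEnt H16.TFi24.P V LLv Apv (nat_lit 16)) (nat_lit 293760) (nat_lit 6528) = true := by decide +kernel
theorem cev_46 : allZ (cenEnt H16.TFi24.P V LLv Apv (nat_lit 16)) (nat_lit 300288) (nat_lit 6528) = true := by decide +kernel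
theorem cev_47 : allZ (cenEnt H16.TFi24.P V LLv Apv (nat_lit 16)) (nat_lit 306816) (nat_lit 120) = true := by decide +kernel
theorem lcw : lowChk H16.TFi24.P 306936 17 LLw [] = 0 ∧ prodN LLw = 1255205709190661721292800 ∧ 0 < 1255205709190661721292800 := by decide +kernel
theorem ccw : cenChk H16.TFi24.P 306936 17 H16.TFi24.B W W (nat_lit 0) LLw Accw Apw = true := by decide +kernel
theorem cew_0 : allZ (cenEnt H16.TFi24.P W LLw Apw (nat_lit 15)) (nat_lit 0) (nat_lit 6080) = true := by decide +kernel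
theorem cew_1 : allZ (cenEnt H16.TFi24.P W LLw Apw (nat_lit 15)) (nat_lit 6080) (nat_lit 6080) = true := by decide +kernel
theorem cew_2 : allZ (cenEnt H16.TFi24.P W LLw Apw (nat_lit 15)) (nat_lit 12160) (nat_lit 6080) = true := by decide +kernel
theorem cew_3 : allZ (cenEnt H16.TFi24.P W LLw Apw (nat_lit 15)) (nat_lit 18240) (nat_lit 6080) = true := by decide +kernel
theorem cew_4 : allZ (cenEnt H16.TFi24.P W LLw Apw (nat_lit 15)) (nat_lit 24320) (nat_lit 6080) = true := by decide +kernel
theorem cew_5 : allZ (cenEnt H16.TFi24.P W LLw Apw (nat_lit 15)) (nat_lit 30400) (nat_lit 6080) = true := by decide +kernel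
theorem cew_6 : allZ (cenEnt H16.TFi24.P W LLw Apw (nat_lit 15)) (nat_lit 36480) (nat_lit 6080) = true := by decide +kernel
theorem cew_7 : allZ (cenEnt H16.TFi24.P W LLw Apw (nat_lit 15)) (nat_lit 42560) (nat_lit 6080) = true := by decide +kernel
theorem cew_8 : allZ (cenEnt H16.TFi24.P W LLw Apw (nat_lit 15)) (nat_lit 48640) (nat_lit 6080) = true := by decide +kernel
theorem cew_9 : allZ (cenEnt H16.TFi24.P W LLw Apw (nat_lit 15)) (nat_lit 54720) (nat_lit 6080) = true := by decide +kernel
theorem cew_10 : allZ (cenEnt H16.TFi24.P W LLw Apw (nat_lit 15)) (nat_lit 60800) (nat_lit 6080) = true := by decide +kernel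
theorem cew_11 : allZ (cenEnt H16.TFi24.P W LLw Apw (nat_lit 15)) (nat_lit 66880) (nat_lit 6080) = true := by decide +kernel
theorem cew_12 : allZ (cenEnt H16.TFi24.P W LLw Apw (nat_lit 15)) (nat_lit 72960) (nat_lit 6080) = true := by decide +kernel
theorem cew_13 : allZ (cenEnt H16.TFi24.P W LLw Apw (nat_lit 15)) (nat_lit 79040) (nat_lit 6080) = true := by decide +kernel
theorem cew_14 : allZ (cenEnt H16.TFi24.P W LLw Apw (nat_lit 15)) (nat_lit 85120) (nat_lit 6080) = true := by decide +kernel
theorem cew_15 : allZ (cenEnt H16.TFi24.P W LLw Apw (nat_lit 15)) (nat_lit 91200) (nat_lit 6080) = true := by decide +kernel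
theorem cew_16 : allZ (cenEnt H16.TFi24.P W LLw Apw (nat_lit 15)) (nat_lit 97280) (nat_lit 6080) = true := by decide +kernel
theorem cew_17 : allZ (cenEnt H16.TFi24.P W LLw Apw (nat_lit 15)) (nat_lit 103360) (nat_lit 6080) = true := by decide +kernel
theorem cew_18 : allZ (cenEnt H16.TFi24.P W LLw Apw (nat_lit 15)) (nat_lit 109440) (nat_lit 6080) = true := by decide +kernel
theorem cew_19 : allZ (cenEnt H16.TFi24.P W LLw Apw (nat_lit 15)) (nat_lit 115520) (nat_lit 6080) = true := by decide +kernel
theorem cew_20 : allZ (cenEnt H16.TFi24.P W LLw Apw (nat_lit 15)) (nat_lit 121600) (nat_lit 6080) = true := by decide +kernel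
theorem cew_21 : allZ (cenEnt H16.TFi24.P W LLw Apw (nat_lit 15)) (nat_lit 127680) (nat_lit 6080) = true := by decide +kernel
theorem cew_22 : allZ (cenEnt H16.TFi24.P W LLw Apw (nat_lit 15)) (nat_lit 133760) (nat_lit 6080) = true := by decide +kernel
theorem cew_23 : allZ (cenEnt H16.TFi24.P W LLw Apw (nat_lit 15)) (nat_lit 139840) (nat_lit 6080) = true := by decide +kernel
theorem cew_24 : allZ (cenEnt H16.TFi24.P W LLw Apw (nat_lit 15)) (nat_lit 145920) (nat_lit 6080) = true := by decide +kernel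
theorem cew_25 : allZ (cenEnt H16.TFi24.P W LLw Apw (nat_lit 15)) (nat_lit 152000) (nat_lit 6080) = true := by decide +kernel
theorem cew_26 : allZ (cenEnt H16.TFi24.P W LLw Apw (nat_lit 15)) (nat_lit 158080) (nat_lit 6080) = true := by decide +kernel
theorem cew_27 : allZ (cenEnt H16.TFi24.P W LLw Apw (nat_lit 15)) (nat_lit 164160) (nat_lit 6080) = true := by decide +kernel
theorem cew_28 : allZ (cenEnt H16.TFi24.P W LLw Apw (nat_lit 15)) (nat_lit 170240) (nat_lit 6080) = true := by decide +kernel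
theorem cew_29 : allZ (cenEnt H16.TFi24.P W LLw Apw (nat_lit 15)) (nat_lit 176320) (nat_lit 6080) = true := by decide +kernel
theorem cew_30 : allZ (cenEnt H16.TFi24.P W LLw Apw (nat_lit 15)) (nat_lit 182400) (nat_lit 6080) = true := by decide +kernel
theorem cew_31 : allZ (cenEnt H16.TFi24.P W LLw Apw (nat_lit 15)) (nat_lit 188480) (nat_lit 6080) = true := by decide +kernel
theorem cew_32 : allZ (cenEnt H16.TFi24.P W LLw Apw (nat_lit 15)) (nat_lit 194560) (nat_lit 6080) = true := by decide +kernel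

end H16.OFi24
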