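import Cfsg.Agent.H16.O.Fi24.D

/-! Generated by tools/h16 (computation kit). -/

set_option maxRecDepth 100000
set_option maxHeartbeats 0

namespace H16.OFi24

theorem cew_33 : allZ (cenEnt H16.TFi24.P W LLw Apw (nat_lit 15)) (nat_lit 200640) (nat_lit 6080) = true := by decide +kernel
theorem cew_34 : allZ (cenEnt H16.TFi24.P W LLw Apw (nat_lit 15)) (nat_lit 206720) (nat_lit 6080) = true := by decide +kernel
theorem cew_35 : allZ (cenEnt H16.TFi24.P W LLw Apw (nat_lit 15)) (nat_lit 212800) (nat_lit 6080) = true := by decide +kernel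
theorem cew_36 : allZ (cenEnt H16.TFi24.P W LLw Apw (nat_lit 15)) (nat_lit 218880) (nat_lit 6080) = true := by decide +kernel
theorem cew_37 : allZ (cenEnt H16.TFi24.P W LLw Apw (nat_lit 15)) (nat_lit 224960) (nat_lit 6080) = true := by decide +kernel
theorem cew_38 : allZ (cenEnt H16.TFi24.P W LLw Apw (nat_lit 15)) (nat_lit 231040) (nat_lit 6080) = true := by decide +kernel
theorem cew_39 : allZ (cenEnt H16.TFi24.P W LLw Apw (nat_lit 15)) (nat_lit 237120) (nat_lit 6080) = true := by decide +kernel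
theorem cew_40 : allZ (cenEnt H16.TFi24.P W LLw Apw (nat_lit 15)) (nat_lit 243200) (nat_lit 6080) = true := by decide +kernel
theorem cew_41 : allZ (cenEnt H16.TFi24.P W LLw Apw (nat_lit 15)) (nat_lit 249280) (nat_lit 6080) = true := by decide +kernel
theorem cew_42 : allZ (cenEnt H16.TFi24.P W LLw Apw (nat_lit 15)) (nat_lit 255360) (nat_lit 6080) = true := by decide +kernel
theorem cew_43 : allZ (cenEnt H16.TFi24.P W LLw Apw (nat_lit 15)) (nat_lit 261440) (nat_lit 6080) = true := by decide +kernel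
theorem cew_44 : allZ (cenEnt H16.TFi24.P W LLw Apw (nat_lit 15)) (nat_lit 267520) (nat_lit 6080) = true := by decide +kernel
theorem cew_45 : allZ (cenEnt H16.TFi24.P W LLw Apw (nat_lit 15)) (nat_lit 273600) (nat_lit 6080) = true := by decide +kernel
theorem cew_46 : allZ (cenEnt H16.TFi24.P W LLw Apw (nat_lit 15)) (nat_lit 279680) (nat_lit 6080) = true := by decide +kernel
theorem cew_47 : allZ (cenEnt H16.TFi24.P W LLw Apw (nat_lit 15)) (nat_lit 285760) (nat_lit 6080) = true := by decide +kernel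
theorem cew_48 : allZ (cenEnt H16.TFi24.P W LLw Apw (nat_lit 15)) (nat_lit 291840) (nat_lit 6080) = true := by decide +kernel
theorem cew_49 : allZ (cenEnt H16.TFi24.P W LLw Apw (nat_lit 15)) (nat_lit 297920) (nat_lit 6080) = true := by decide +kernel
theorem cew_50 : allZ (cenEnt H16.TFi24.P W LLw Apw (nat_lit 15)) (nat_lit 304000) (nat_lit 2936) = true := by decide +kernel
theorem dc : D.chk H16.TFi24.P 306936 17 H16.TFi24.B = true := by decide +kernel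
theorem fl_0 : allZ (D.fail H16.TFi24.P [0, 24]) (nat_lit 0) (nat_lit 25) = true := by decide +kernel
theorem fl_1 : allZ (D.fail H16.TFi24.P [0, 24]) (nat_lit 25) (nat_lit 7) = true := by decide +kernel
theorem gc : slpX H16.TFi24.P 17 H16.TFi24.B 17 0 3 [D.X, D.W, D.S, [nat_lit 8, nat_lit 10, nat_lit 12, nat_lit 10, nat_lit 1, nat_lit 2, nat_lit 3, nat_lit 7, nat_lit 8, nat_lit 1, nat_lit 10, nat_lit 8, nat_lit 9, nat_lit 4, nat_lit 5, nat_lit 6, nat_lit 12, nat_lit 10, nat_lit 3, nat_lit 2, nat_lit 1, nat_lit 10, nat_lit 2, nat_lit 7, nat_lit 8, nat_lit 10, nat_lit 7, nat_lit 3, nat_lit 0, nat_lit 2, nat_lit 1, nat_lit 8, nat_lit 10, nat_lit 3, nat_lit 7, nat_lit 8, nat_lit 2, nat_lit 10, nat_lit 1, nat_lit 0, nat_lit 5, nat_lit 7, nat_lit 6, nat_lit 8, nat_lit 7, nat_lit 9, nat_lit 10, nat_lit 8, nat_lit 7, nat_lit 5, nat_lit 2, nat_lit 1, nat_lit 2, nat_lit 3, nat_lit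 2, nat_lit 1, nat_lit 2, nat_lit 4, nat_lit 7, nat_lit 8, nat_lit 10, nat_lit 1, nat_lit 3, nat_lit 7, nat_lit 10, nat_lit 8, nat_lit 9, nat_lit 7, nat_lit 6, nat_lit 3, nat_lit 8, nat_lit 3, nat_lit 4, nat_lit 1, nat_lit 10, nat_lit 11], [nat_lit 2, nat_lit 8, nat_lit 10, nat_lit 6, nat_lit 12, nat_lit 9, nat_lit 7, nat_lit 8, nat_lit 1, nat_lit 10, nat_lit 8, nat_lit 9, nat_lit 5, nat_lit 6, nat_lit 12, nat_lit 3, nat_lit 5, nat_lit 7, nat_lit 8, nat_lit 9, nat_lit 8, nat_lit 7, nat_lit 5, nat_lit 6, nat_lit 4, nat_lit 3, nat_lit 2, nat_lit 10, nat_lit 1, nat_lit 2, nat_lit 3, nat_lit 10, nat_lit 0, nat_lit 6, nat_lit 7, nat_lit 4, nat_lit 5, nat_lit 9, nat_lit 8, nat_lit 7, nat_lit 9, nat_lit 5, nat_lit 6, nat_lit 4, nat_lit 0, nat_lit 5, nat_lit 9, nat_lit 10, nat_lit 8, nat_lit 9, nat_lit 5, nat_lit 4, nat_lit 5, nat_lit 6, nat_lit 7, nat_lit 9, nat_lit 4, nat_lit 5,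 nat_lit 4, nat_lit 2, nat_lit 1, nat_lit 3, nat_lit 8, nat_lit 7, nat_lit 10, nat_lit 0, nat_lit 6, nat_lit 8, nat_lit 9, nat_lit 5, nat_lit 3, nat_lit 7, nat_lit 4, nat_lit 2, nat_lit 0, nat_lit 8, nat_lit 7, nat_lit 1, nat_lit 4, nat_lit 5, nat_lit 6, nat_lit 8], [nat_lit 8, nat_lit 1, nat_lit 10, nat_lit 3, nat_lit 7, nat_lit 8, nat_lit 9, nat_lit 7, nat_lit 2, nat_lit 3, nat_lit 4, nat_lit 5, nat_lit 6, nat_lit 12, nat_lit 8, nat_lit 7, nat_lit 9, nat_lit 8, nat_lit 10, nat_lit 8, nat_lit 9, nat_lit 7, nat_lit 8, nat_lit 3, nat_lit 2, nat_lit 10, nat_lit 1, nat_lit 2, nat_lit 3, nat_lit 10, nat_lit 8, nat_lit 7, nat_lit 9, nat_lit 8, nat_lit 10, nat_lit 8, nat_lit 9, nat_lit 7, nat_lit 8, nat_lit 1, nat_lit 2, nat_lit 4, nat_lit 8, nat_lit 3, nat_lit 7, nat_lit 4, nat_lit 2, nat_lit 8, nat_lit 5, nat_lit 6, nat_lit 4, nat_lit 1, nat_lit 9, nat_lit 10, nat_lit 4, nat_lit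 3, nat_lit 8, nat_lit 7, nat_lit 4, nat_lit 3, nat_lit 5, nat_lit 9, nat_lit 10, nat_lit 7, nat_lit 8, nat_lit 1, nat_lit 10, nat_lit 0, nat_lit 2, nat_lit 7, nat_lit 8, nat_lit 7, nat_lit 3, nat_lit 4, nat_lit 3, nat_lit 2, nat_lit 0, nat_lit 10, nat_lit 11], [nat_lit 9, nat_lit 6, nat_lit 12, nat_lit 10, nat_lit 5, nat_lit 9, nat_lit 7, nat_lit 8, nat_lit 2, nat_lit 1, nat_lit 10, nat_lit 4, nat_lit 5, nat_lit 6, nat_lit 12, nat_lit 9, nat_lit 8, nat_lit 5, nat_lit 4, nat_lit 3, nat_lit 4, nat_lit 5, nat_lit 4, nat_lit 2, nat_lit 5, nat_lit 7, nat_lit 3, nat_lit 7, nat_lit 4, nat_lit 5, nat_lit 2, nat_lit 3, nat_lit 4, nat_lit 6, nat_lit 5, nat_lit 7, nat_lit 8, nat_lit 9, nat_lit 8, nat_lit 10, nat_lit 8, nat_lit 6, nat_lit 1, nat_lit 2, nat_lit 7, nat_lit 3, nat_lit 4, nat_lit 2, nat_lit 6, nat_lit 1, nat_lit 4, nat_lit 8, nat_lit 7, nat_lit 3, nat_lit 10, nat_lit 1,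 nat_lit 4, nat_lit 7, nat_lit 8, nat_lit 10, nat_lit 8, nat_lit 3, nat_lit 4, nat_lit 9, nat_lit 7, nat_lit 8, nat_lit 2, nat_lit 4, nat_lit 5, nat_lit 4, nat_lit 8, nat_lit 11], [nat_lit 8, nat_lit 4, nat_lit 0, nat_lit 1, nat_lit 5, nat_lit 6, nat_lit 5, nat_lit 0, nat_lit 3, nat_lit 2, nat_lit 1, nat_lit 8, nat_lit 9, nat_lit 6, nat_lit 7, nat_lit 3, nat_lit 8, nat_lit 1, nat_lit 10, nat_lit 8, nat_lit 2, nat_lit 1, nat_lit 10, nat_lit 8, nat_lit 2, nat_lit 7, nat_lit 8, nat_lit 10, nat_lit 1, nat_lit 2, nat_lit 0, nat_lit 10, nat_lit 9, nat_lit 0, nat_lit 3, nat_lit 2, nat_lit 1, nat_lit 8, nat_lit 10, nat_lit 8, nat_lit 1, nat_lit 2, nat_lit 3, nat_lit 0, nat_lit 8, nat_lit 5, nat_lit 2, nat_lit 1, nat_lit 0, nat_lit 7, nat_lit 3, nat_lit 8, nat_lit 9, nat_lit 1, nat_lit 4, nat_lit 7, nat_lit 8, nat_lit 9, nat_lit 5, nat_lit 3, nat_lit 2, nat_lit 0, nat_lit 2, nat_lit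 5, nat_lit 4, nat_lit 7, nat_lit 3], [nat_lit 2, nat_lit 3, nat_lit 9, nat_lit 6, nat_lit 8, nat_lit 6, nat_lit 3, nat_lit 2, nat_lit 5, nat_lit 4, nat_lit 7, nat_lit 3, nat_lit 7, nat_lit 5, nat_lit 2, nat_lit 4, nat_lit 5, nat_lit 4, nat_lit 3, nat_lit 0, nat_lit 4, nat_lit 3, nat_lit 6, nat_lit 8, nat_lit 1, nat_lit 3, nat_lit 7, nat_lit 10, nat_lit 8, nat_lit 2, nat_lit 3, nat_lit 2, nat_lit 1, nat_lit 2, nat_lit 3, nat_lit 4, nat_lit 1, nat_lit 3, nat_lit 7, nat_lit 3, nat_lit 2, nat_lit 3, nat_lit 7, nat_lit 10, nat_lit 8, nat_lit 7, nat_lit 3, nat_lit 10, nat_lit 1, nat_lit 2, nat_lit 5, nat_lit 7, nat_lit 3, nat_lit 10, nat_lit 8, nat_lit 1, nat_lit 9, nat_lit 8, nat_lit 7, nat_lit 5, nat_lit 0, nat_lit 4, nat_lit 5, nat_lit 9, nat_lit 8, nat_lit 10], [nat_lit 0, nat_lit 8, nat_lit 7, nat_lit 3, nat_lit 2, nat_lit 4, nat_lit 3, nat_lit 7, nat_lit 0, nat_lit 3, nat_lit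 6, nat_lit 4, nat_lit 2, nat_lit 3, nat_lit 10, nat_lit 0, nat_lit 1, nat_lit 2, nat_lit 3, nat_lit 7, nat_lit 3, nat_lit 2, nat_lit 1, nat_lit 0, nat_lit 10, nat_lit 1, nat_lit 2, nat_lit 5, nat_lit 4, nat_lit 9, nat_lit 5, nat_lit 9, nat_lit 8, nat_lit 7, nat_lit 6, nat_lit 3, nat_lit 4, nat_lit 2, nat_lit 1, nat_lit 10, nat_lit 9, nat_lit 6, nat_lit 5, nat_lit 9, nat_lit 6, nat_lit 0, nat_lit 1, nat_lit 10, nat_lit 0, nat_lit 8, nat_lit 7, nat_lit 6, nat_lit 4, nat_lit 2, nat_lit 3, nat_lit 7, nat_lit 4, nat_lit 5, nat_lit 2], [nat_lit 5, nat_lit 7, nat_lit 1, nat_lit 3, nat_lit 2, nat_lit 4, nat_lit 3, nat_lit 7, nat_lit 0, nat_lit 3, nat_lit 6, nat_lit 4, nat_lit 10, nat_lit 1, nat_lit 2, nat_lit 3, nat_lit 10, nat_lit 8, nat_lit 7, nat_lit 9, nat_lit 8, nat_lit 10, nat_lit 8, nat_lit 9, nat_lit 7, nat_lit 8, nat_lit 9, nat_lit 1, nat_lit 4, nat_lit 5, nat_lit 4, nat_lit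 6, nat_lit 8, nat_lit 2, nat_lit 3, nat_lit 4, nat_lit 1, nat_lit 7, nat_lit 3, nat_lit 7, nat_lit 8, nat_lit 1, nat_lit 2, nat_lit 1, nat_lit 8, nat_lit 7, nat_lit 9, nat_lit 8, nat_lit 10, nat_lit 8, nat_lit 9, nat_lit 7, nat_lit 8, nat_lit 3, nat_lit 7, nat_lit 8, nat_lit 9, nat_lit 10, nat_lit 8, nat_lit 7, nat_lit 3, nat_lit 2, nat_lit 4, nat_lit 5, nat_lit 8]]
  [((nat_lit 20), [nat_lit 17, nat_lit 17, nat_lit 19, nat_lit 19, nat_lit 17, nat_lit 19, nat_lit 17, nat_lit 19, nat_lit 17, nat_lit 17, nat_lit 19, nat_lit 18, nat_lit 17, nat_lit 17, nat_lit 19, nat_lit 19, nat_lit 17, nat_lit 19, nat_lit 17]),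
  ((nat_lit 21), [nat_lit 17, nat_lit 19, nat_lit 17, nat_lit 19, nat_lit 18, nat_lit 17, nat_lit 17, nat_lit 17, nat_lit 17, nat_lit 19, nat_lit 19, nat_lit 19, nat_lit 18, nat_lit 17, nat_lit 19, nat_lit 18, nat_lit 17, nat_lit 17]),
  ((nat_lit 22), [nat_lit 20]),
  ((nat_lit 23), [nat_lit 21]),
  ((nat_lit 24), [nat_lit 22, nat_lit 23, nat_lit 22, nat_lit 22, nat_lit 23, nat_lit 20, nat_lit 23, nat_lit 20, nat_lit 23, nat_lit 22, nat_lit 23, nat_lit 20, nat_lit 21, nat_lit 20, nat_lit 20, nat_lit 23, nat_lit 23, nat_lit 23]),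
  ((nat_lit 25), [nat_lit 20, nat_lit 23, nat_lit 20, nat_lit 21, nat_lit 22, nat_lit 20, nat_lit 20, nat_lit 21, nat_lit 20, nat_lit 22, nat_lit 23, nat_lit 22, nat_lit 22, nat_lit 21, nat_lit 20, nat_lit 21]),
  ((nat_lit 26), [nat_lit 24]),
  ((nat_lit 27), [nat_lit 25]),
  ((nat_lit 11), [nat_lit 26, nat_lit 26, nat_lit 26, nat_lit 26, nat_lit 26, nat_lit 26, nat_lit 26, nat_lit 26, nat_lit 26, nat_lit 26, nat_lit 26, nat_lit 26, nat_lit 26, nat_lit 26, nat_lit 26]),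
  ((nat_lit 0), [nat_lit 27, nat_lit 26, nat_lit 25, nat_lit 24, nat_lit 24, nat_lit 25, nat_lit 24, nat_lit 27, nat_lit 24, nat_lit 27, nat_lit 26, nat_lit 25, nat_lit 25, nat_lit 25, nat_lit 24, nat_lit 24, nat_lit 24, nat_lit 24, nat_lit 25, nat_lit 25, nat_lit 26, nat_lit 27, nat_lit 26, nat_lit 27, nat_lit 26, nat_lit 27, nat_lit 26, nat_lit 27, nat_lit 24, nat_lit 24, nat_lit 27, nat_lit 24, nat_lit 25, nat_lit 26, nat_lit 26, nat_lit 27, nat_lit 26, nat_lit 27, nat_lit 27, nat_lit 26, nat_lit 26, nat_lit 27, nat_lit 24, nat_lit 24, nat_lit 27, nat_lit 27, nat_lit 26, nat_lit 25, nat_lit 24, nat_lit 25, nat_lit 24, nat_lit 27, nat_lit 27, nat_lit 27, nat_lit 24, nat_lit 25, nat_lit 26, nat_lit 25, nat_lit 24, nat_lit 25, nat_lit 11]),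
  ((nat_lit 1), [nat_lit 24, nat_lit 25, nat_lit 26, nat_lit 26, nat_lit 25, nat_lit 25, nat_lit 26, nat_lit 27, nat_lit 24, nat_lit 25, nat_lit 24, nat_lit 27, nat_lit 27, nat_lit 27, nat_lit 27, nat_lit 26, nat_lit 26, nat_lit 26, nat_lit 26, nat_lit 27, nat_lit 24, nat_lit 27, nat_lit 27, nat_lit 24, nat_lit 27, nat_lit 24, nat_lit 25, nat_lit 25, nat_lit 24, nat_lit 24, nat_lit 27, nat_lit 24, nat_lit 27, nat_lit 27, nat_lit 26, nat_lit 27, nat_lit 26, nat_lit 27, nat_lit 26, nat_lit 25, nat_lit 26, nat_lit 26, nat_lit 26, nat_lit 26, nat_lit 27, nat_lit 26, nat_lit 26, nat_lit 27, nat_lit 24, nat_lit 27, nat_lit 27, nat_lit 26, nat_lit 26, nat_lit 25, nat_lit 25, nat_lit 25, nat_lit 26, nat_lit 26, nat_lit 25, nat_lit 24, nat_lit 24, nat_lit 24, nat_lit 25, nat_lit 26, nat_lit 25, nat_lit 24, nat_lit 25, nat_lit 25, nat_lit 25, nat_lit 24, nat_lit 27, nat_lit 27, nat_lit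 24, nat_lit 27, nat_lit 24]),
  ((nat_lit 2), [nat_lit 27, nat_lit 27, nat_lit 27, nat_lit 27, nat_lit 27, nat_lit 24, nat_lit 24, nat_lit 24, nat_lit 27, nat_lit 26, nat_lit 26, nat_lit 26, nat_lit 27, nat_lit 24, nat_lit 27, nat_lit 24, nat_lit 25, nat_lit 24, nat_lit 27, nat_lit 24, nat_lit 27, nat_lit 26, nat_lit 25, nat_lit 26, nat_lit 27, nat_lit 26, nat_lit 25, nat_lit 24, nat_lit 24, nat_lit 27, nat_lit 26, nat_lit 26, nat_lit 25, nat_lit 24, nat_lit 24, nat_lit 24, nat_lit 25, nat_lit 25, nat_lit 24, nat_lit 25, nat_lit 26, nat_lit 27, nat_lit 27, nat_lit 24, nat_lit 27, nat_lit 26, nat_lit 25, nat_lit 24, nat_lit 27, nat_lit 26, nat_lit 27, nat_lit 24, nat_lit 27, nat_lit 27, nat_lit 26, nat_lit 25, nat_lit 24, nat_lit 25, nat_lit 26, nat_lit 26, nat_lit 27, nat_lit 24, nat_lit 27, nat_lit 24, nat_lit 25, nat_lit 26, nat_lit 27, nat_lit 24, nat_lit 24, nat_lit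 27, nat_lit 24, nat_lit 25, nat_lit 24, nat_lit 24, nat_lit 25, nat_lit 24, nat_lit 27, nat_lit 27, nat_lit 24, nat_lit 25, nat_lit 25, nat_lit 24, nat_lit 24, nat_lit 27, nat_lit 26, nat_lit 27, nat_lit 27, nat_lit 27, nat_lit 24, nat_lit 25, nat_lit 25, nat_lit 25, nat_lit 25, nat_lit 11]),
  ((nat_lit 3), [nat_lit 24, nat_lit 24, nat_lit 25, nat_lit 25, nat_lit 26, nat_lit 26, nat_lit 26, nat_lit 26, nat_lit 26, nat_lit 27, nat_lit 26, nat_lit 26, nat_lit 26, nat_lit 27, nat_lit 26, nat_lit 26, nat_lit 26, nat_lit 26, nat_lit 26, nat_lit 25, nat_lit 25, nat_lit 24, nat_lit 24, nat_lit 24, nat_lit 25, nat_lit 25, nat_lit 26, nat_lit 25, nat_lit 24, nat_lit 27, nat_lit 27, nat_lit 27, nat_lit 26, nat_lit 26, nat_lit 25, nat_lit 26, nat_lit 26, nat_lit 26, nat_lit 26, nat_lit 26, nat_lit 26, nat_lit 27, nat_lit 26, nat_lit 27, nat_lit 27, nat_lit 26, nat_lit 26, nat_lit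 25, nat_lit 25, nat_lit 25, nat_lit 26, nat_lit 26, nat_lit 26, nat_lit 27, nat_lit 26, nat_lit 26, nat_lit 27, nat_lit 27, nat_lit 24, nat_lit 25, nat_lit 26, nat_lit 26, nat_lit 11]),
  ((nat_lit 4), [nat_lit 25, nat_lit 24, nat_lit 24, nat_lit 25, nat_lit 25, nat_lit 25, nat_lit 26, nat_lit 25, nat_lit 26, nat_lit 26, nat_lit 27, nat_lit 27, nat_lit 26, nat_lit 25, nat_lit 26, nat_lit 25, nat_lit 25, nat_lit 26, nat_lit 25, nat_lit 24, nat_lit 24, nat_lit 24, nat_lit 24, nat_lit 25, nat_lit 25, nat_lit 25, nat_lit 25, nat_lit 26, nat_lit 27, nat_lit 26, nat_lit 25, nat_lit 24, nat_lit 27, nat_lit 27, nat_lit 24, nat_lit 24, nat_lit 27, nat_lit 24, nat_lit 24, nat_lit 24, nat_lit 25, nat_lit 25, nat_lit 24, nat_lit 24, nat_lit 24, nat_lit 27, nat_lit 27, nat_lit 26, nat_lit 26, nat_lit 27, nat_lit 26, nat_lit 26, nat_lit 26, nat_lit 25, nat_lit 24, nat_lit 27, nat_lit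 27, nat_lit 26, nat_lit 25, nat_lit 24, nat_lit 27, nat_lit 27, nat_lit 27, nat_lit 27, nat_lit 27, nat_lit 26, nat_lit 25, nat_lit 26]),
  ((nat_lit 5), [nat_lit 26, nat_lit 26, nat_lit 27, nat_lit 24, nat_lit 27, nat_lit 27, nat_lit 24, nat_lit 27, nat_lit 24, nat_lit 24, nat_lit 24, nat_lit 24, nat_lit 27, nat_lit 27, nat_lit 24, nat_lit 24, nat_lit 25, nat_lit 24, nat_lit 24, nat_lit 27, nat_lit 26, nat_lit 26, nat_lit 25, nat_lit 24, nat_lit 25, nat_lit 26, nat_lit 25, nat_lit 24, nat_lit 25, nat_lit 24, nat_lit 25, nat_lit 26, nat_lit 26, nat_lit 27, nat_lit 27, nat_lit 26, nat_lit 25, nat_lit 24, nat_lit 25, nat_lit 24, nat_lit 27, nat_lit 27, nat_lit 27, nat_lit 24, nat_lit 24, nat_lit 24, nat_lit 27, nat_lit 26, nat_lit 26, nat_lit 25, nat_lit 25, nat_lit 26, nat_lit 25, nat_lit 25, nat_lit 26, nat_lit 27, nat_lit 27, nat_lit 26, nat_lit 25, nat_lit 26, nat_lit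 27, nat_lit 24, nat_lit 25, nat_lit 24, nat_lit 27, nat_lit 24, nat_lit 27, nat_lit 11]),
  ((nat_lit 6), [nat_lit 26, nat_lit 26, nat_lit 25, nat_lit 24, nat_lit 27, nat_lit 27, nat_lit 26, nat_lit 27, nat_lit 27, nat_lit 26, nat_lit 27, nat_lit 27, nat_lit 27, nat_lit 24, nat_lit 25, nat_lit 26, nat_lit 26, nat_lit 27, nat_lit 27, nat_lit 27, nat_lit 24, nat_lit 25, nat_lit 26, nat_lit 26, nat_lit 26, nat_lit 27, nat_lit 26, nat_lit 25, nat_lit 26, nat_lit 25, nat_lit 24, nat_lit 27, nat_lit 26, nat_lit 27, nat_lit 26, nat_lit 27, nat_lit 27, nat_lit 26, nat_lit 27, nat_lit 26, nat_lit 25, nat_lit 26, nat_lit 27, nat_lit 27, nat_lit 24, nat_lit 24, nat_lit 25, nat_lit 25, nat_lit 24, nat_lit 25, nat_lit 24, nat_lit 24, nat_lit 27, nat_lit 24, nat_lit 24, nat_lit 25, nat_lit 26, nat_lit 27, nat_lit 27, nat_lit 26, nat_lit 26, nat_lit 25, nat_lit 26, nat_lit 27, nat_lit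 24, nat_lit 24, nat_lit 27]),
  ((nat_lit 7), [nat_lit 24, nat_lit 25, nat_lit 25, nat_lit 24, nat_lit 24, nat_lit 25, nat_lit 24, nat_lit 25, nat_lit 26, nat_lit 27, nat_lit 24, nat_lit 24, nat_lit 25, nat_lit 26, nat_lit 26, nat_lit 26, nat_lit 26, nat_lit 26, nat_lit 26, nat_lit 26, nat_lit 25, nat_lit 26, nat_lit 26, nat_lit 26, nat_lit 26, nat_lit 26, nat_lit 26, nat_lit 25, nat_lit 26, nat_lit 25, nat_lit 26, nat_lit 27, nat_lit 26, nat_lit 27, nat_lit 27, nat_lit 24, nat_lit 24, nat_lit 25, nat_lit 26, nat_lit 26, nat_lit 27, nat_lit 26, nat_lit 25, nat_lit 25, nat_lit 26, nat_lit 25, nat_lit 24, nat_lit 24, nat_lit 27, nat_lit 24, nat_lit 24, nat_lit 27, nat_lit 27, nat_lit 26, nat_lit 26, nat_lit 27, nat_lit 26, nat_lit 26, nat_lit 26, nat_lit 25, nat_lit 26, nat_lit 27, nat_lit 24, nat_lit 27, nat_lit 24, nat_lit 24, nat_lit 11]),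
  ((nat_lit 8), [nat_lit 24, nat_lit 24, nat_lit 25, nat_lit 25, nat_lit 25, nat_lit 24, nat_lit 25, nat_lit 24, nat_lit 24, nat_lit 25, nat_lit 26, nat_lit 26, nat_lit 25, nat_lit 25, nat_lit 24, nat_lit 25, nat_lit 24, nat_lit 27, nat_lit 24, nat_lit 25, nat_lit 26, nat_lit 26, nat_lit 26, nat_lit 26, nat_lit 25, nat_lit 24, nat_lit 24, nat_lit 24, nat_lit 27, nat_lit 27, nat_lit 26, nat_lit 26, nat_lit 27, nat_lit 27, nat_lit 27, nat_lit 26, nat_lit 27, nat_lit 24, nat_lit 25, nat_lit 24, nat_lit 25, nat_lit 26, nat_lit 25, nat_lit 25, nat_lit 25, nat_lit 25, nat_lit 24, nat_lit 27, nat_lit 27, nat_lit 26, nat_lit 27, nat_lit 24, nat_lit 27, nat_lit 26, nat_lit 25, nat_lit 25, nat_lit 25, nat_lit 24, nat_lit 24, nat_lit 27, nat_lit 24, nat_lit 24, nat_lit 24, nat_lit 25, nat_lit 24, nat_lit 24, nat_lit 25, nat_lit 25, nat_lit 26, nat_lit 26, nat_lit 26, nat_lit 11]),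
  ((nat_lit 9), [nat_lit 26, nat_lit 27, nat_lit 24, nat_lit 25, nat_lit 26, nat_lit 25, nat_lit 26, nat_lit 27, nat_lit 27, nat_lit 27, nat_lit 24, nat_lit 25, nat_lit 24, nat_lit 27, nat_lit 26, nat_lit 25, nat_lit 25, nat_lit 24, nat_lit 27, nat_lit 26, nat_lit 25, nat_lit 26, nat_lit 25, nat_lit 26, nat_lit 25, nat_lit 25, nat_lit 25, nat_lit 25, nat_lit 26, nat_lit 26, nat_lit 27, nat_lit 24, nat_lit 27, nat_lit 24, nat_lit 27, nat_lit 24, nat_lit 24, nat_lit 24, nat_lit 25, nat_lit 25, nat_lit 26, nat_lit 26, nat_lit 26, nat_lit 25, nat_lit 25, nat_lit 26, nat_lit 25, nat_lit 24, nat_lit 24, nat_lit 24, nat_lit 24, nat_lit 27, nat_lit 24, nat_lit 27, nat_lit 24, nat_lit 25, nat_lit 26, nat_lit 26, nat_lit 27, nat_lit 27, nat_lit 24, nat_lit 25, nat_lit 24, nat_lit 25, nat_lit 24, nat_lit 25, nat_lit 24, nat_lit 24, nat_lit 27, nat_lit 24, nat_lit 11]),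
  ((nat_lit 10), [nat_lit 25, nat_lit 25, nat_lit 26, nat_lit 25, nat_lit 26, nat_lit 27, nat_lit 27, nat_lit 26, nat_lit 25, nat_lit 25, nat_lit 25, nat_lit 25, nat_lit 24, nat_lit 27, nat_lit 26, nat_lit 27, nat_lit 27, nat_lit 24, nat_lit 27, nat_lit 24, nat_lit 25, nat_lit 26, nat_lit 26, nat_lit 27, nat_lit 27, nat_lit 24, nat_lit 24, nat_lit 24, nat_lit 24, nat_lit 27, nat_lit 27, nat_lit 26, nat_lit 25, nat_lit 25, nat_lit 26, nat_lit 26, nat_lit 25, nat_lit 26, nat_lit 26, nat_lit 26, nat_lit 26, nat_lit 25, nat_lit 25, nat_lit 25, nat_lit 24, nat_lit 27, nat_lit 27, nat_lit 27, nat_lit 27, nat_lit 27, nat_lit 24, nat_lit 27, nat_lit 24, nat_lit 27, nat_lit 27, nat_lit 26, nat_lit 27, nat_lit 26, nat_lit 27, nat_lit 27, nat_lit 27, nat_lit 27, nat_lit 24, nat_lit 25, nat_lit 26, nat_lit 25, nat_lit 25, nat_lit 24, nat_lit 24, nat_lit 25, nat_lit 25, nat_lit 25, nat_lit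 25, nat_lit 24, nat_lit 25, nat_lit 24, nat_lit 24]),
  ((nat_lit 12), [nat_lit 22, nat_lit 21, nat_lit 21, nat_lit 20, nat_lit 20, nat_lit 21, nat_lit 21, nat_lit 21, nat_lit 21, nat_lit 21, nat_lit 8, nat_lit 6, nat_lit 9, nat_lit 5, nat_lit 10, nat_lit 6, nat_lit 5, nat_lit 4, nat_lit 7, nat_lit 8, nat_lit 7, nat_lit 3, nat_lit 2, nat_lit 4, nat_lit 3, nat_lit 7, nat_lit 0, nat_lit 3, nat_lit 6, nat_lit 4, nat_lit 2, nat_lit 3, nat_lit 9, nat_lit 8, nat_lit 7, nat_lit 5, nat_lit 2, nat_lit 10, nat_lit 9, nat_lit 3, nat_lit 2, nat_lit 10, nat_lit 1, nat_lit 2, nat_lit 3, nat_lit 10, nat_lit 4, nat_lit 6, nat_lit 5, nat_lit 7, nat_lit 8, nat_lit 1, nat_lit 2, nat_lit 7, nat_lit 3, nat_lit 4, nat_lit 2, nat_lit 1, nat_lit 2, nat_lit 3, nat_lit 7, nat_lit 3, nat_lit 2, nat_lit 1, nat_lit 0, nat_lit 10, nat_lit 8, nat_lit 9, nat_lit 10, nat_lit 1, nat_lit 7, nat_lit 8, nat_lit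 9, nat_lit 5, nat_lit 3, nat_lit 4, nat_lit 3, nat_lit 7]),
  ((nat_lit 13), [nat_lit 18, nat_lit 18, nat_lit 19, nat_lit 17, nat_lit 19, nat_lit 18, nat_lit 17, nat_lit 19, nat_lit 18, nat_lit 19, nat_lit 19, nat_lit 1, nat_lit 10, nat_lit 12, nat_lit 9, nat_lit 7, nat_lit 8, nat_lit 3, nat_lit 2, nat_lit 0, nat_lit 1, nat_lit 10, nat_lit 6, nat_lit 12, nat_lit 1, nat_lit 3, nat_lit 2, nat_lit 8, nat_lit 7, nat_lit 9, nat_lit 8, nat_lit 10, nat_lit 8, nat_lit 9, nat_lit 7, nat_lit 8, nat_lit 3, nat_lit 2, nat_lit 10, nat_lit 1, nat_lit 2, nat_lit 3, nat_lit 10, nat_lit 5, nat_lit 8, nat_lit 9, nat_lit 8, nat_lit 5, nat_lit 1, nat_lit 2, nat_lit 4, nat_lit 8, nat_lit 3, nat_lit 7, nat_lit 4, nat_lit 2, nat_lit 8, nat_lit 5, nat_lit 6, nat_lit 4, nat_lit 1, nat_lit 9, nat_lit 10, nat_lit 1, nat_lit 4, nat_lit 6, nat_lit 7, nat_lit 10, nat_lit 8, nat_lit 2, nat_lit 4, nat_lit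 5, nat_lit 9, nat_lit 8, nat_lit 7, nat_lit 5, nat_lit 6, nat_lit 3, nat_lit 4, nat_lit 2, nat_lit 10, nat_lit 3, nat_lit 4, nat_lit 2, nat_lit 5, nat_lit 4, nat_lit 9, nat_lit 10, nat_lit 8]),
  ((nat_lit 14), [nat_lit 13]),
  ((nat_lit 15), [nat_lit 8, nat_lit 6, nat_lit 7, nat_lit 10, nat_lit 9, nat_lit 8, nat_lit 7, nat_lit 3, nat_lit 0, nat_lit 1, nat_lit 0, nat_lit 9, nat_lit 10, nat_lit 3, nat_lit 2, nat_lit 1, nat_lit 10, nat_lit 2, nat_lit 3, nat_lit 4, nat_lit 6, nat_lit 5, nat_lit 7, nat_lit 8, nat_lit 1, nat_lit 2, nat_lit 7, nat_lit 3, nat_lit 4, nat_lit 2, nat_lit 1, nat_lit 10, nat_lit 4, nat_lit 6, nat_lit 5, nat_lit 7, nat_lit 8, nat_lit 1, nat_lit 2, nat_lit 7, nat_lit 3, nat_lit 4, nat_lit 2, nat_lit 1, nat_lit 5, nat_lit 9, nat_lit 8, nat_lit 6, nat_lit 5, nat_lit 9, nat_lit 5, nat_lit 10, nat_lit 3, nat_lit 2, nat_lit 1, nat_lit 10, nat_lit 2, nat_lit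 4, nat_lit 12, nat_lit 6, nat_lit 5, nat_lit 10, nat_lit 1, nat_lit 8, nat_lit 7, nat_lit 9, nat_lit 10, nat_lit 8, nat_lit 7, nat_lit 12, nat_lit 10, nat_lit 1, nat_lit 14, nat_lit 0, nat_lit 1, nat_lit 9, nat_lit 5, nat_lit 8, nat_lit 7, nat_lit 10, nat_lit 1, nat_lit 0, nat_lit 8, nat_lit 12, nat_lit 10, nat_lit 8, nat_lit 9, nat_lit 14]),
  ((nat_lit 16), [nat_lit 11, nat_lit 4, nat_lit 1, nat_lit 10, nat_lit 2, nat_lit 1, nat_lit 2, nat_lit 3, nat_lit 4, nat_lit 0, nat_lit 10, nat_lit 3, nat_lit 7, nat_lit 2, nat_lit 1, nat_lit 3, nat_lit 7, nat_lit 8, nat_lit 7, nat_lit 3, nat_lit 1, nat_lit 7, nat_lit 10, nat_lit 8, nat_lit 9, nat_lit 8, nat_lit 7, nat_lit 5, nat_lit 2, nat_lit 9, nat_lit 8, nat_lit 3, nat_lit 7, nat_lit 1, nat_lit 9, nat_lit 5, nat_lit 9, nat_lit 10, nat_lit 8, nat_lit 9, nat_lit 5, nat_lit 9, nat_lit 4, nat_lit 6, nat_lit 5, nat_lit 7, nat_lit 8,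 nat_lit 1, nat_lit 2, nat_lit 7, nat_lit 3, nat_lit 4, nat_lit 2, nat_lit 1, nat_lit 5, nat_lit 9, nat_lit 8, nat_lit 6, nat_lit 5, nat_lit 9, nat_lit 6, nat_lit 5, nat_lit 12, nat_lit 6, nat_lit 5, nat_lit 4, nat_lit 3, nat_lit 9, nat_lit 8, nat_lit 7, nat_lit 10, nat_lit 1, nat_lit 0, nat_lit 8, nat_lit 9, nat_lit 12, nat_lit 10, nat_lit 13, nat_lit 9, nat_lit 5, nat_lit 6, nat_lit 8, nat_lit 9, nat_lit 10, nat_lit 1, nat_lit 0, nat_lit 14, nat_lit 9, nat_lit 5, nat_lit 8, nat_lit 9, nat_lit 8])] = true := by decide +kernel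
theorem ic_0 : allZ (D.inn H16.TFi24.P H16.TFi24.B 24) (nat_lit 0) (nat_lit 32) = true := by decide +kernel
theorem bc1 : D.subChk H16.TFi24.P 17 H16.TFi24.B Wb 24 = true := by decide +kernel
theorem bc0 : ltAll 17 Wt = 0 ∧ H26.F24.T.n ≤ 2 ^ 19 := by decide +kernel
theorem bc2 : conjChk H16.TFi24.P (fun i => force (SI H26.F24.T 19 14 i) (apW H16.TFi24.P Wt)) 306936 17 H16.TFi24.B [nat_lit 150711, nat_lit 150582, nat_lit 296672, nat_lit 134074, nat_lit 271637, nat_lit 9673] Wb = true := by decide +kernel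

end H16.OFi24
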