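import Cfsg.Agent.H16.O.Fi24.D

/-! Generated by tools/h16 (computation kit). -/

set_option maxRecDepth 100000
set_option maxHeartbeats 0

namespace H16.OFi24

theorem lcv : lowChk H16.TFi24.P 306936 17 LLv [] = 0 ∧ prodN LLv = 1255205709190661721292800 ∧ 0 < 1255205709190661721292800 := by decide +kernel
theorem ccv : cenChk H16.TFi24.P 306936 17 H16.TFi24.B V V (nat_lit 0) LLv Accv Apv = true := by decide +kernel
theorem cev_0 : allZ (cenEnt H16.TFi24.P V LLv Apv (nat_lit 16)) (nat_lit 0) (nat_lit 6528) = true := by decide +kernel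
theorem cev_1 : allZ (cenEnt H16.TFi24.P V LLv Apv (nat_lit 16)) (nat_lit 6528) (nat_lit 6528) = true := by decide +kernel
theorem cev_2 : allZ (cenEnt H16.TFi24.P V LLv Apv (nat_lit 16)) (nat_lit 13056) (nat_lit 6528) = true := by decide +kernel
theorem cev_3 : allZ (cenEnt H16.TFi24.P V LLv Apv (nat_lit 16)) (nat_lit 19584) (nat_lit 6528) = true := by decide +kernel
theorem cev_4 : allZ (cenEnt H16.TFi24.P V LLv Apv (nat_lit 16)) (nat_lit 26112) (nat_lit 6528) = true := by decide +kernel
theorem cev_5 : allZ (cenEnt H16.TFi24.P V LLv Apv (nat_lit 16)) (nat_lit 32640) (nat_lit 6528) = true := by decide +kernel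
theorem cev_6 : allZ (cenEnt H16.TFi24.P V LLv Apv (nat_lit 16)) (nat_lit 39168) (nat_lit 6528) = true := by decide +kernel
theorem cev_7 : allZ (cenEnt H16.TFi24.P V LLv Apv (nat_lit 16)) (nat_lit 45696) (nat_lit 6528) = true := by decide +kernel
theorem cev_8 : allZ (cenEnt H16.TFi24.P V LLv Apv (nat_lit 16)) (nat_lit 52224) (nat_lit 6528) = true := by decide +kernel
theorem cev_9 : allZ (cenEnt H16.TFi24.P V LLv Apv (nat_lit 16)) (nat_lit 58752) (nat_lit 6528) = true := by decide +kernel
theorem cev_10 : allZ (cenEnt H16.TFi24.P V LLv Apv (nat_lit 16)) (nat_lit 65280) (nat_lit 6528) = true := by decide +kernel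
theorem cev_11 : allZ (cenEnt H16.TFi24.P V LLv Apv (nat_lit 16)) (nat_lit 71808) (nat_lit 6528) = true := by decide +kernel
theorem cev_12 : allZ (cenEnt H16.TFi24.P V LLv Apv (nat_lit 16)) (nat_lit 78336) (nat_lit 6528) = true := by decide +kernel
theorem cev_13 : allZ (cenEnt H16.TFi24.P V LLv Apv (nat_lit 16)) (nat_lit 84864) (nat_lit 6528) = true := by decide +kernel
theorem cev_14 : allZ (cenEnt H16.TFi24.P V LLv Apv (nat_lit 16)) (nat_lit 91392) (nat_lit 6528) = true := by decide +kernel
theorem cev_15 : allZ (cenEnt H16.TFi24.P V LLv Apv (nat_lit 16)) (nat_lit 97920) (nat_lit 6528) = true := by decide +kernel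
theorem cev_16 : allZ (cenEnt H16.TFi24.P V LLv Apv (nat_lit 16)) (nat_lit 104448) (nat_lit 6528) = true := by decide +kernel
theorem cev_17 : allZ (cenEnt H16.TFi24.P V LLv Apv (nat_lit 16)) (nat_lit 110976) (nat_lit 6528) = true := by decide +kernel
theorem cev_18 : allZ (cenEnt H16.TFi24.P V LLv Apv (nat_lit 16)) (nat_lit 117504) (nat_lit 6528) = true := by decide +kernel
theorem cev_19 : allZ (cenEnt H16.TFi24.P V LLv Apv (nat_lit 16)) (nat_lit 124032) (nat_lit 6528) = true := by decide +kernel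
theorem cev_20 : allZ (cenEnt H16.TFi24.P V LLv Apv (nat_lit 16)) (nat_lit 130560) (nat_lit 6528) = true := by decide +kernel
theorem cev_21 : allZ (cenEnt H16.TFi24.P V LLv Apv (nat_lit 16)) (nat_lit 137088) (nat_lit 6528) = true := by decide +kernel
theorem cev_22 : allZ (cenEnt H16.TFi24.P V LLv Apv (nat_lit 16)) (nat_lit 143616) (nat_lit 6528) = true := by decide +kernel
theorem cev_23 : allZ (cenEnt H16.TFi24.P V LLv Apv (nat_lit 16)) (nat_lit 150144) (nat_lit 6528) = true := by decide +kernel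
theorem cev_24 : allZ (cenEnt H16.TFi24.P V LLv Apv (nat_lit 16)) (nat_lit 156672) (nat_lit 6528) = true := by decide +kernel
theorem cev_25 : allZ (cenEnt H16.TFi24.P V LLv Apv (nat_lit 16)) (nat_lit 163200) (nat_lit 6528) = true := by decide +kernel
theorem cev_26 : allZ (cenEnt H16.TFi24.P V LLv Apv (nat_lit 16)) (nat_lit 169728) (nat_lit 6528) = true := by decide +kernel
theorem cev_27 : allZ (cenEnt H16.TFi24.P V LLv Apv (nat_lit 16)) (nat_lit 176256) (nat_lit 6528) = true := by decide +kernel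
theorem cev_28 : allZ (cenEnt H16.TFi24.P V LLv Apv (nat_lit 16)) (nat_lit 182784) (nat_lit 6528) = true := by decide +kernel
theorem cev_29 : allZ (cenEnt H16.TFi24.P V LLv Apv (nat_lit 16)) (nat_lit 189312) (nat_lit 6528) = true := by decide +kernel
theorem cev_30 : allZ (cenEnt H16.TFi24.P V LLv Apv (nat_lit 16)) (nat_lit 195840) (nat_lit 6528) = true := by decide +kernel
theorem cev_31 : allZ (cenEnt H16.TFi24.P V LLv Apv (nat_lit 16)) (nat_lit 202368) (nat_lit 6528) = true := by decide +kernel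
theorem cev_32 : allZ (cenEnt H16.TFi24.P V LLv Apv (nat_lit 16)) (nat_lit 208896) (nat_lit 6528) = true := by decide +kernel
theorem cev_33 : allZ (cenEnt H16.TFi24.P V LLv Apv (nat_lit 16)) (nat_lit 215424) (nat_lit 6528) = true := by decide +kernel
theorem cev_34 : allZ (cenEnt H16.TFi24.P V LLv Apv (nat_lit 16)) (nat_lit 221952) (nat_lit 6528) = true := by decide +kernel
theorem cev_35 : allZ (cenEnt H16.TFi24.P V LLv Apv (nat_lit 16)) (nat_lit 228480) (nat_lit 6528) = true := by decide +kernel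
theorem cev_36 : allZ (cenEnt H16.TFi24.P V LLv Apv (nat_lit 16)) (nat_lit 235008) (nat_lit 6528) = true := by decide +kernel
theorem cev_37 : allZ (cenEnt H16.TFi24.P V LLv Apv (nat_lit 16)) (nat_lit 241536) (nat_lit 6528) = true := by decide +kernel
theorem cev_38 : allZ (cenEnt H16.TFi24.P V LLv Apv (nat_lit 16)) (nat_lit 248064) (nat_lit 6528) = true := by decide +kernel
theorem cev_39 : allZ (cenEnt H16.TFi24.P V LLv Apv (nat_lit 16)) (nat_lit 254592) (nat_lit 6528) = true := by decide +kernel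

end H16.OFi24
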