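import Cfsg.Agent.H16.Out
import Cfsg.Agent.H16.T.Fi24

/-! Generated by tools/h16 (computation kit). -/

set_option maxRecDepth 100000
set_option maxHeartbeats 0

namespace H16.OFi24

open scoped Pointwise
noncomputable def V : List ℕ := [nat_lit 15]
noncomputable def W : List ℕ := [nat_lit 16]
noncomputable def lvx3 : Lv := ⟨(nat_lit 3), (nat_lit 271724), (nat_lit 1), (nat_lit 1), [], fun _ => (nat_lit 0), (nat_lit 1)⟩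
noncomputable def LLv : List Lv := [H16.TFi24.lv0 (nat_lit 0), H16.TFi24.lv1 (nat_lit 2), H16.TFi24.lv2 (nat_lit 16), H16.TFi24.kv0 (nat_lit 1), H16.TFi24.kv1 (nat_lit 15), H16.TFi24.kv2 (nat_lit 8), lvx3]
noncomputable def Accv : List (List ℕ) := [[]]
noncomputable def Apv : List ℕ := [nat_lit 0]
noncomputable def LLw : List Lv := [H16.TFi24.lv0 (nat_lit 0), H16.TFi24.lv1 (nat_lit 12), H16.TFi24.lv2 (nat_lit 3), H16.TFi24.kw0 (nat_lit 15), H16.TFi24.kw1 (nat_lit 13), H16.TFi24.kw2 (nat_lit 14)]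
noncomputable def Accw : List (List ℕ) := [[],
  [nat_lit 15, nat_lit 9, nat_lit 15, nat_lit 9, nat_lit 0, nat_lit 15, nat_lit 12, nat_lit 7, nat_lit 8, nat_lit 10, nat_lit 5, nat_lit 9, nat_lit 2, nat_lit 3, nat_lit 7, nat_lit 8, nat_lit 1, nat_lit 10, nat_lit 5, nat_lit 6, nat_lit 12, nat_lit 6, nat_lit 3, nat_lit 7, nat_lit 3, nat_lit 2, nat_lit 10, nat_lit 1, nat_lit 2, nat_lit 3, nat_lit 10, nat_lit 0, nat_lit 6, nat_lit 7, nat_lit 4, nat_lit 5, nat_lit 9, nat_lit 8, nat_lit 7, nat_lit 9, nat_lit 5, nat_lit 6, nat_lit 4, nat_lit 0, nat_lit 9, nat_lit 1, nat_lit 2, nat_lit 5, nat_lit 4, nat_lit 9, nat_lit 5, nat_lit 9, nat_lit 8, nat_lit 7, nat_lit 6, nat_lit 3, nat_lit 4, nat_lit 2, nat_lit 1, nat_lit 10, nat_lit 9, nat_lit 3, nat_lit 7, nat_lit 9, nat_lit 8, nat_lit 7, nat_lit 4, nat_lit 3, nat_lit 7, nat_lit 5, nat_lit 3, nat_lit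 4, nat_lit 3, nat_lit 0, nat_lit 1, nat_lit 6, nat_lit 11]]
noncomputable def Apw : List ℕ := [nat_lit 0, nat_lit 3417]
noncomputable def D : OD := ⟨17, 3, 9, 13, 16, [1], V, [nat_lit 14, nat_lit 6, nat_lit 12, nat_lit 9, nat_lit 1, nat_lit 16, nat_lit 9, nat_lit 8, nat_lit 5, nat_lit 9, nat_lit 2, nat_lit 3, nat_lit 7, nat_lit 8, nat_lit 1, nat_lit 10, nat_lit 12, nat_lit 8, nat_lit 7, nat_lit 9, nat_lit 8, nat_lit 10, nat_lit 8, nat_lit 9, nat_lit 7, nat_lit 8, nat_lit 5, nat_lit 6, nat_lit 5, nat_lit 3, nat_lit 2, nat_lit 10, nat_lit 1, nat_lit 2, nat_lit 3, nat_lit 10, nat_lit 5, nat_lit 8, nat_lit 9, nat_lit 8, nat_lit 5, nat_lit 1, nat_lit 2, nat_lit 3, nat_lit 2, nat_lit 1, nat_lit 10, nat_lit 4, nat_lit 3, nat_lit 7, nat_lit 3, nat_lit 4, nat_lit 0, nat_lit 3, nat_lit 2, nat_lit 7, nat_lit 2, nat_lit 1, nat_lit 10, nat_lit 8,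 nat_lit 7, nat_lit 3, nat_lit 0, nat_lit 7, nat_lit 8, nat_lit 6, nat_lit 3, nat_lit 2, nat_lit 10, nat_lit 4, nat_lit 1, nat_lit 2, nat_lit 0, nat_lit 1, nat_lit 5, nat_lit 10, nat_lit 3, nat_lit 2, nat_lit 8, nat_lit 10, nat_lit 11], [nat_lit 0, nat_lit 5, nat_lit 9, nat_lit 15, nat_lit 13, nat_lit 5, nat_lit 16, nat_lit 9, nat_lit 8, nat_lit 10, nat_lit 2, nat_lit 3, nat_lit 7, nat_lit 8, nat_lit 9, nat_lit 5, nat_lit 6, nat_lit 12, nat_lit 8, nat_lit 7, nat_lit 9, nat_lit 8, nat_lit 10, nat_lit 8, nat_lit 9, nat_lit 7, nat_lit 8, nat_lit 5, nat_lit 6, nat_lit 5, nat_lit 3, nat_lit 2, nat_lit 5, nat_lit 4, nat_lit 7, nat_lit 3, nat_lit 7, nat_lit 5, nat_lit 2, nat_lit 4, nat_lit 5, nat_lit 4, nat_lit 3, nat_lit 6, nat_lit 9, nat_lit 5, nat_lit 10, nat_lit 6, nat_lit 4, nat_lit 3, nat_lit 5, nat_lit 8, nat_lit 0, nat_lit 7, nat_lit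 8, nat_lit 10, nat_lit 1, nat_lit 2, nat_lit 6, nat_lit 7, nat_lit 9, nat_lit 7, nat_lit 8, nat_lit 0, nat_lit 5, nat_lit 6, nat_lit 3, nat_lit 6, nat_lit 5, nat_lit 4, nat_lit 5, nat_lit 6, nat_lit 1], W, [nat_lit 11, nat_lit 8, nat_lit 9, nat_lit 6, nat_lit 5, nat_lit 16, nat_lit 13, nat_lit 2, nat_lit 1, nat_lit 10, nat_lit 12, nat_lit 1, nat_lit 10, nat_lit 8, nat_lit 2, nat_lit 0, nat_lit 1, nat_lit 10, nat_lit 6, nat_lit 12, nat_lit 6, nat_lit 0, nat_lit 7, nat_lit 3, nat_lit 2, nat_lit 5, nat_lit 4, nat_lit 7, nat_lit 3, nat_lit 7, nat_lit 5, nat_lit 2, nat_lit 4, nat_lit 5, nat_lit 4, nat_lit 3, nat_lit 4, nat_lit 6, nat_lit 5, nat_lit 8, nat_lit 7, nat_lit 9, nat_lit 10, nat_lit 8, nat_lit 5, nat_lit 6, nat_lit 4, nat_lit 0, nat_lit 1, nat_lit 7, nat_lit 3, nat_lit 8, nat_lit 9, nat_lit 2, nat_lit 4, nat_lit 5, nat_lit 9, nat_lit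 8, nat_lit 10, nat_lit 7, nat_lit 1, nat_lit 7, nat_lit 3, nat_lit 2, nat_lit 4, nat_lit 3, nat_lit 7, nat_lit 0, nat_lit 3, nat_lit 6, nat_lit 4, nat_lit 2, nat_lit 3, nat_lit 4, nat_lit 3, nat_lit 6, nat_lit 5, nat_lit 1, nat_lit 2, nat_lit 1, nat_lit 11], Accw,
  [([nat_lit 1, nat_lit 1, nat_lit 2], (nat_lit 4)), ([nat_lit 0, nat_lit 2], (nat_lit 17))], (nat_lit 0)⟩
noncomputable def Wb : List (List ℕ) := [[nat_lit 3, nat_lit 13, nat_lit 0, nat_lit 14, nat_lit 12, nat_lit 5, nat_lit 9, nat_lit 7, nat_lit 8, nat_lit 10, nat_lit 9, nat_lit 4, nat_lit 5, nat_lit 6, nat_lit 12, nat_lit 0, nat_lit 7, nat_lit 6, nat_lit 5, nat_lit 7, nat_lit 8, nat_lit 9, nat_lit 8, nat_lit 7, nat_lit 5, nat_lit 6, nat_lit 4, nat_lit 3, nat_lit 2, nat_lit 5, nat_lit 4, nat_lit 7, nat_lit 3, nat_lit 7, nat_lit 5, nat_lit 2, nat_lit 4, nat_lit 5, nat_lit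 4, nat_lit 3, nat_lit 5, nat_lit 8, nat_lit 9, nat_lit 8, nat_lit 5, nat_lit 3, nat_lit 4, nat_lit 7, nat_lit 3, nat_lit 8, nat_lit 7, nat_lit 3, nat_lit 5, nat_lit 8, nat_lit 10, nat_lit 9, nat_lit 8, nat_lit 0, nat_lit 8, nat_lit 7, nat_lit 4],
  [nat_lit 3, nat_lit 11, nat_lit 0, nat_lit 13, nat_lit 1, nat_lit 0, nat_lit 13, nat_lit 12, nat_lit 11, nat_lit 4, nat_lit 5, nat_lit 9, nat_lit 3, nat_lit 7, nat_lit 8, nat_lit 10, nat_lit 12, nat_lit 8, nat_lit 4, nat_lit 5, nat_lit 7, nat_lit 2, nat_lit 4, nat_lit 3, nat_lit 7, nat_lit 9, nat_lit 8, nat_lit 7, nat_lit 3, nat_lit 6, nat_lit 7, nat_lit 8, nat_lit 9, nat_lit 5, nat_lit 9, nat_lit 4, nat_lit 5, nat_lit 2, nat_lit 1, nat_lit 3, nat_lit 4, nat_lit 3, nat_lit 5, nat_lit 7, nat_lit 9, nat_lit 3, nat_lit 4, nat_lit 3, nat_lit 1, nat_lit 2, nat_lit 1, nat_lit 0],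
  [nat_lit 1, nat_lit 0, nat_lit 14, nat_lit 2, nat_lit 1, nat_lit 0, nat_lit 13, nat_lit 10, nat_lit 12, nat_lit 5, nat_lit 9, nat_lit 7, nat_lit 8, nat_lit 10, nat_lit 9, nat_lit 3, nat_lit 4, nat_lit 5, nat_lit 6, nat_lit 12, nat_lit 7, nat_lit 6, nat_lit 3, nat_lit 9, nat_lit 3, nat_lit 2, nat_lit 10, nat_lit 1, nat_lit 2, nat_lit 3, nat_lit 0, nat_lit 1, nat_lit 2, nat_lit 3, nat_lit 7, nat_lit 3, nat_lit 2, nat_lit 1, nat_lit 0, nat_lit 3, nat_lit 4, nat_lit 3, nat_lit 7, nat_lit 8, nat_lit 10, nat_lit 9, nat_lit 8, nat_lit 1, nat_lit 3, nat_lit 4, nat_lit 5, nat_lit 4, nat_lit 3, nat_lit 0, nat_lit 2, nat_lit 4, nat_lit 5, nat_lit 7, nat_lit 3, nat_lit 4, nat_lit 5, nat_lit 9, nat_lit 8, nat_lit 10, nat_lit 2, nat_lit 3, nat_lit 4, nat_lit 5, nat_lit 11],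
  [nat_lit 9, nat_lit 15, nat_lit 7, nat_lit 2, nat_lit 16, nat_lit 5, nat_lit 15, nat_lit 10, nat_lit 8, nat_lit 6, nat_lit 2, nat_lit 3, nat_lit 4, nat_lit 5, nat_lit 9, nat_lit 7, nat_lit 8, nat_lit 1, nat_lit 10, nat_lit 5, nat_lit 6, nat_lit 12, nat_lit 8, nat_lit 7, nat_lit 9, nat_lit 8, nat_lit 10, nat_lit 8, nat_lit 9, nat_lit 7, nat_lit 8, nat_lit 5, nat_lit 6, nat_lit 9, nat_lit 10, nat_lit 8, nat_lit 9, nat_lit 5, nat_lit 4, nat_lit 5, nat_lit 6, nat_lit 7, nat_lit 10, nat_lit 9, nat_lit 4, nat_lit 5, nat_lit 4, nat_lit 2, nat_lit 4, nat_lit 3, nat_lit 7, nat_lit 8, nat_lit 10, nat_lit 2, nat_lit 4, nat_lit 3, nat_lit 1, nat_lit 2, nat_lit 5, nat_lit 8, nat_lit 7, nat_lit 4, nat_lit 9, nat_lit 7, nat_lit 8, nat_lit 0, nat_lit 2, nat_lit 1, nat_lit 0, nat_lit 3, nat_lit 5, nat_lit 8, nat_lit 9, nat_lit 10],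
  [nat_lit 2, nat_lit 5, nat_lit 9, nat_lit 14, nat_lit 4, nat_lit 5, nat_lit 9, nat_lit 13, nat_lit 12, nat_lit 11, nat_lit 7, nat_lit 8, nat_lit 9, nat_lit 3, nat_lit 4, nat_lit 5, nat_lit 6, nat_lit 12, nat_lit 0, nat_lit 6, nat_lit 7, nat_lit 4, nat_lit 5, nat_lit 9, nat_lit 8, nat_lit 7, nat_lit 9, nat_lit 5, nat_lit 6, nat_lit 4, nat_lit 0, nat_lit 7, nat_lit 3, nat_lit 2, nat_lit 4, nat_lit 3, nat_lit 7, nat_lit 0, nat_lit 3, nat_lit 6, nat_lit 4, nat_lit 10, nat_lit 1, nat_lit 2, nat_lit 3, nat_lit 10, nat_lit 4, nat_lit 5, nat_lit 6, nat_lit 7, nat_lit 9, nat_lit 4, nat_lit 5, nat_lit 4, nat_lit 5, nat_lit 9, nat_lit 10, nat_lit 8, nat_lit 9, nat_lit 5, nat_lit 0, nat_lit 3, nat_lit 6, nat_lit 7, nat_lit 1, nat_lit 2, nat_lit 4, nat_lit 8, nat_lit 7, nat_lit 9, nat_lit 3, nat_lit 0, nat_lit 7, nat_lit 8, nat_lit 4, nat_lit 5,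 nat_lit 2, nat_lit 1, nat_lit 3, nat_lit 0, nat_lit 2, nat_lit 10, nat_lit 11],
  [nat_lit 11, nat_lit 9, nat_lit 13, nat_lit 5, nat_lit 9, nat_lit 13, nat_lit 12, nat_lit 1, nat_lit 10, nat_lit 5, nat_lit 9, nat_lit 7, nat_lit 8, nat_lit 3, nat_lit 2, nat_lit 0, nat_lit 1, nat_lit 10, nat_lit 12, nat_lit 4, nat_lit 1, nat_lit 5, nat_lit 6, nat_lit 9, nat_lit 8, nat_lit 10, nat_lit 9, nat_lit 5, nat_lit 4, nat_lit 6, nat_lit 5, nat_lit 7, nat_lit 8, nat_lit 1, nat_lit 2, nat_lit 7, nat_lit 3, nat_lit 4, nat_lit 2, nat_lit 1, nat_lit 3, nat_lit 2, nat_lit 10, nat_lit 1, nat_lit 2, nat_lit 3, nat_lit 10, nat_lit 1, nat_lit 4, nat_lit 7, nat_lit 8, nat_lit 10, nat_lit 3, nat_lit 7, nat_lit 3, nat_lit 1, nat_lit 9, nat_lit 8, nat_lit 3, nat_lit 7, nat_lit 9, nat_lit 10, nat_lit 4, nat_lit 6, nat_lit 5, nat_lit 8, nat_lit 10, nat_lit 2, nat_lit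 6, nat_lit 7, nat_lit 8, nat_lit 7, nat_lit 10],
  [nat_lit 7, nat_lit 5, nat_lit 9, nat_lit 14, nat_lit 6, nat_lit 5, nat_lit 9, nat_lit 13, nat_lit 12, nat_lit 11, nat_lit 4, nat_lit 5, nat_lit 9, nat_lit 3, nat_lit 7, nat_lit 8, nat_lit 10, nat_lit 12, nat_lit 5, nat_lit 6, nat_lit 5, nat_lit 0, nat_lit 2, nat_lit 1, nat_lit 10, nat_lit 1, nat_lit 2, nat_lit 1, nat_lit 7, nat_lit 8, nat_lit 10, nat_lit 7, nat_lit 1, nat_lit 2, nat_lit 0, nat_lit 3, nat_lit 2, nat_lit 8, nat_lit 10, nat_lit 9, nat_lit 7, nat_lit 8, nat_lit 6, nat_lit 3, nat_lit 1, nat_lit 3, nat_lit 10, nat_lit 0, nat_lit 4, nat_lit 7, nat_lit 8, nat_lit 1, nat_lit 2, nat_lit 5, nat_lit 7, nat_lit 3, nat_lit 2, nat_lit 1, nat_lit 5, nat_lit 8, nat_lit 10, nat_lit 7, nat_lit 3, nat_lit 2, nat_lit 10, nat_lit 4, nat_lit 11],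
  [nat_lit 16, nat_lit 4, nat_lit 5, nat_lit 9, nat_lit 15, nat_lit 16, nat_lit 10, nat_lit 6, nat_lit 12, nat_lit 1, nat_lit 10, nat_lit 8, nat_lit 9, nat_lit 5, nat_lit 6, nat_lit 12, nat_lit 0, nat_lit 10, nat_lit 2, nat_lit 7, nat_lit 3, nat_lit 2, nat_lit 4, nat_lit 3, nat_lit 7, nat_lit 0, nat_lit 3, nat_lit 6, nat_lit 4, nat_lit 10, nat_lit 1, nat_lit 2, nat_lit 3, nat_lit 10, nat_lit 5, nat_lit 7, nat_lit 8, nat_lit 7, nat_lit 9, nat_lit 10, nat_lit 8, nat_lit 7, nat_lit 5, nat_lit 2, nat_lit 8, nat_lit 3, nat_lit 2, nat_lit 4, nat_lit 6, nat_lit 7, nat_lit 8, nat_lit 9, nat_lit 3, nat_lit 0, nat_lit 3, nat_lit 2, nat_lit 10, nat_lit 1, nat_lit 2, nat_lit 3, nat_lit 10, nat_lit 5, nat_lit 6, nat_lit 5, nat_lit 0, nat_lit 7, nat_lit 3, nat_lit 8, nat_lit 10, nat_lit 11],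
  [nat_lit 3, nat_lit 9, nat_lit 13, nat_lit 8, nat_lit 9, nat_lit 13, nat_lit 2, nat_lit 0, nat_lit 1, nat_lit 10, nat_lit 12, nat_lit 11, nat_lit 3, nat_lit 7, nat_lit 8, nat_lit 9, nat_lit 5, nat_lit 6, nat_lit 12, nat_lit 9, nat_lit 8, nat_lit 10, nat_lit 4, nat_lit 6, nat_lit 5, nat_lit 7, nat_lit 8, nat_lit 9, nat_lit 8, nat_lit 7, nat_lit 5, nat_lit 6, nat_lit 4, nat_lit 3, nat_lit 2, nat_lit 10, nat_lit 1, nat_lit 2, nat_lit 3, nat_lit 10, nat_lit 5, nat_lit 9, nat_lit 8, nat_lit 10, nat_lit 9, nat_lit 5, nat_lit 9, nat_lit 1, nat_lit 2, nat_lit 3, nat_lit 2, nat_lit 7, nat_lit 3, nat_lit 8, nat_lit 9, nat_lit 2, nat_lit 5, nat_lit 7, nat_lit 8, nat_lit 9, nat_lit 8, nat_lit 10, nat_lit 7, nat_lit 4, nat_lit 3, nat_lit 6, nat_lit 10, nat_lit 0, nat_lit 2, nat_lit 4, nat_lit 5, nat_lit 6],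
  [nat_lit 14, nat_lit 9, nat_lit 13, nat_lit 12, nat_lit 1, nat_lit 10, nat_lit 5, nat_lit 9, nat_lit 7, nat_lit 8, nat_lit 3, nat_lit 2, nat_lit 0, nat_lit 1, nat_lit 10, nat_lit 12, nat_lit 5, nat_lit 6, nat_lit 5, nat_lit 3, nat_lit 2, nat_lit 10, nat_lit 1, nat_lit 2, nat_lit 3, nat_lit 10, nat_lit 8, nat_lit 7, nat_lit 9, nat_lit 8, nat_lit 10, nat_lit 8, nat_lit 9, nat_lit 7, nat_lit 8, nat_lit 10, nat_lit 9, nat_lit 6, nat_lit 8, nat_lit 7, nat_lit 9, nat_lit 3, nat_lit 2, nat_lit 0, nat_lit 7, nat_lit 1, nat_lit 2, nat_lit 0, nat_lit 3, nat_lit 7, nat_lit 8, nat_lit 3, nat_lit 2, nat_lit 10, nat_lit 7, nat_lit 3, nat_lit 4, nat_lit 3, nat_lit 6, nat_lit 5, nat_lit 7, nat_lit 6, nat_lit 1, nat_lit 0, nat_lit 10, nat_lit 8, nat_lit 9, nat_lit 10, nat_lit 1, nat_lit 2, nat_lit 1, nat_lit 3, nat_lit 5, nat_lit 10, nat_lit 7, nat_lit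 10, nat_lit 2, nat_lit 3],
  [nat_lit 5, nat_lit 12, nat_lit 16, nat_lit 16, nat_lit 11, nat_lit 6, nat_lit 2, nat_lit 15, nat_lit 13, nat_lit 5, nat_lit 6, nat_lit 3, nat_lit 4, nat_lit 5, nat_lit 9, nat_lit 3, nat_lit 7, nat_lit 8, nat_lit 10, nat_lit 12, nat_lit 5, nat_lit 6, nat_lit 5, nat_lit 3, nat_lit 2, nat_lit 10, nat_lit 1, nat_lit 2, nat_lit 3, nat_lit 10, nat_lit 0, nat_lit 6, nat_lit 7, nat_lit 4, nat_lit 5, nat_lit 9, nat_lit 8, nat_lit 7, nat_lit 9, nat_lit 5, nat_lit 6, nat_lit 4, nat_lit 0, nat_lit 1, nat_lit 2, nat_lit 4, nat_lit 8, nat_lit 3, nat_lit 7, nat_lit 4, nat_lit 2, nat_lit 8, nat_lit 5, nat_lit 6, nat_lit 3, nat_lit 5, nat_lit 10, nat_lit 4, nat_lit 7, nat_lit 8, nat_lit 10, nat_lit 5, nat_lit 3, nat_lit 4, nat_lit 1, nat_lit 2, nat_lit 4, nat_lit 3, nat_lit 6, nat_lit 8, nat_lit 1, nat_lit 2, nat_lit 4,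 nat_lit 3, nat_lit 5, nat_lit 10, nat_lit 6, nat_lit 4, nat_lit 1],
  [nat_lit 3, nat_lit 14, nat_lit 16, nat_lit 16, nat_lit 16, nat_lit 16, nat_lit 4, nat_lit 5, nat_lit 9, nat_lit 2, nat_lit 3, nat_lit 7, nat_lit 8, nat_lit 0, nat_lit 1, nat_lit 10, nat_lit 6, nat_lit 12, nat_lit 2, nat_lit 3, nat_lit 5, nat_lit 6, nat_lit 5, nat_lit 0, nat_lit 2, nat_lit 7, nat_lit 8, nat_lit 9, nat_lit 2, nat_lit 5, nat_lit 4, nat_lit 7, nat_lit 3, nat_lit 1, nat_lit 2, nat_lit 3, nat_lit 7, nat_lit 4, nat_lit 5, nat_lit 2, nat_lit 9, nat_lit 8, nat_lit 7, nat_lit 2, nat_lit 1, nat_lit 0, nat_lit 1, nat_lit 2, nat_lit 4, nat_lit 3, nat_lit 7, nat_lit 2, nat_lit 1, nat_lit 8, nat_lit 7, nat_lit 5, nat_lit 6, nat_lit 4, nat_lit 6, nat_lit 9, nat_lit 5, nat_lit 6, nat_lit 8, nat_lit 7, nat_lit 4, nat_lit 1, nat_lit 6, nat_lit 7, nat_lit 3, nat_lit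 10, nat_lit 0, nat_lit 2, nat_lit 7, nat_lit 8, nat_lit 10, nat_lit 1, nat_lit 10, nat_lit 8, nat_lit 4, nat_lit 0, nat_lit 1, nat_lit 3, nat_lit 7, nat_lit 10, nat_lit 8, nat_lit 9],
  [nat_lit 7, nat_lit 11, nat_lit 12, nat_lit 16, nat_lit 16, nat_lit 16, nat_lit 16, nat_lit 9, nat_lit 8, nat_lit 0, nat_lit 1, nat_lit 10, nat_lit 12, nat_lit 7, nat_lit 3, nat_lit 2, nat_lit 4, nat_lit 3, nat_lit 7, nat_lit 0, nat_lit 3, nat_lit 6, nat_lit 4, nat_lit 2, nat_lit 3, nat_lit 9, nat_lit 5, nat_lit 9, nat_lit 10, nat_lit 8, nat_lit 9, nat_lit 5, nat_lit 1, nat_lit 2, nat_lit 4, nat_lit 3, nat_lit 7, nat_lit 2, nat_lit 1, nat_lit 8, nat_lit 7, nat_lit 5, nat_lit 6, nat_lit 4, nat_lit 1, nat_lit 7, nat_lit 3, nat_lit 8, nat_lit 9, nat_lit 2, nat_lit 4, nat_lit 5, nat_lit 9, nat_lit 8, nat_lit 10, nat_lit 7, nat_lit 1, nat_lit 3, nat_lit 2,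 nat_lit 10, nat_lit 1, nat_lit 2, nat_lit 3, nat_lit 10, nat_lit 8, nat_lit 7, nat_lit 6, nat_lit 0, nat_lit 1, nat_lit 2, nat_lit 4, nat_lit 3, nat_lit 6, nat_lit 5, nat_lit 0, nat_lit 7, nat_lit 10],
  [nat_lit 14, nat_lit 11, nat_lit 10, nat_lit 12, nat_lit 10, nat_lit 7, nat_lit 8, nat_lit 1, nat_lit 10, nat_lit 5, nat_lit 6, nat_lit 12, nat_lit 5, nat_lit 6, nat_lit 5, nat_lit 3, nat_lit 2, nat_lit 5, nat_lit 4, nat_lit 7, nat_lit 3, nat_lit 7, nat_lit 5, nat_lit 2, nat_lit 4, nat_lit 5, nat_lit 4, nat_lit 3, nat_lit 10, nat_lit 1, nat_lit 3, nat_lit 7, nat_lit 3, nat_lit 4, nat_lit 3, nat_lit 6, nat_lit 5, nat_lit 8, nat_lit 7, nat_lit 6, nat_lit 3, nat_lit 1, nat_lit 4, nat_lit 5, nat_lit 6, nat_lit 8, nat_lit 7, nat_lit 3, nat_lit 2, nat_lit 10, nat_lit 1, nat_lit 2, nat_lit 3, nat_lit 10, nat_lit 4, nat_lit 5, nat_lit 11],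
  [nat_lit 1, nat_lit 14, nat_lit 12, nat_lit 10, nat_lit 6, nat_lit 12, nat_lit 8, nat_lit 1, nat_lit 10, nat_lit 4, nat_lit 5, nat_lit 6, nat_lit 12, nat_lit 6, nat_lit 7, nat_lit 8, nat_lit 5, nat_lit 6, nat_lit 5, nat_lit 3, nat_lit 2, nat_lit 10, nat_lit 1, nat_lit 2, nat_lit 3, nat_lit 10, nat_lit 1, nat_lit 2, nat_lit 8, nat_lit 7, nat_lit 3, nat_lit 7, nat_lit 8, nat_lit 6, nat_lit 3, nat_lit 4, nat_lit 5, nat_lit 3, nat_lit 4, nat_lit 2, nat_lit 0, nat_lit 8, nat_lit 10, nat_lit 8, nat_lit 1, nat_lit 0, nat_lit 1, nat_lit 3, nat_lit 6, nat_lit 4, nat_lit 2, nat_lit 3, nat_lit 7, nat_lit 8, nat_lit 10, nat_lit 5, nat_lit 4, nat_lit 0, nat_lit 1, nat_lit 2, nat_lit 9, nat_lit 3, nat_lit 4, nat_lit 5, nat_lit 1, nat_lit 3, nat_lit 5, nat_lit 9, nat_lit 11],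
  [nat_lit 11, nat_lit 4, nat_lit 16, nat_lit 9, nat_lit 15, nat_lit 15, nat_lit 2, nat_lit 15, nat_lit 10, nat_lit 3, nat_lit 7, nat_lit 8, nat_lit 9, nat_lit 7, nat_lit 3, nat_lit 4, nat_lit 5, nat_lit 6, nat_lit 12, nat_lit 5, nat_lit 6, nat_lit 5, nat_lit 3, nat_lit 2, nat_lit 10, nat_lit 1, nat_lit 2, nat_lit 3, nat_lit 10, nat_lit 0, nat_lit 2, nat_lit 3, nat_lit 8, nat_lit 9, nat_lit 1, nat_lit 5, nat_lit 7, nat_lit 3, nat_lit 2, nat_lit 8, nat_lit 6, nat_lit 3, nat_lit 7, nat_lit 8, nat_lit 7, nat_lit 3, nat_lit 1, nat_lit 0, nat_lit 3, nat_lit 4, nat_lit 7, nat_lit 3, nat_lit 8, nat_lit 10, nat_lit 7, nat_lit 4, nat_lit 3, nat_lit 8, nat_lit 2, nat_lit 3, nat_lit 4, nat_lit 1, nat_lit 0, nat_lit 3, nat_lit 6, nat_lit 7, nat_lit 1, nat_lit 4, nat_lit 8, nat_lit 9, nat_lit 5, nat_lit 3, nat_lit 5, nat_lit 11],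
  [nat_lit 16]]
noncomputable def Wt : List ℕ := [nat_lit 0, nat_lit 13, nat_lit 16, nat_lit 2, nat_lit 16, nat_lit 13, nat_lit 11, nat_lit 1, nat_lit 10, nat_lit 9, nat_lit 3, nat_lit 7, nat_lit 8, nat_lit 2, nat_lit 0, nat_lit 1, nat_lit 10, nat_lit 12, nat_lit 3, nat_lit 2, nat_lit 5, nat_lit 4, nat_lit 7, nat_lit 3, nat_lit 7, nat_lit 5, nat_lit 2, nat_lit 4, nat_lit 5, nat_lit 4, nat_lit 2, nat_lit 10, nat_lit 1, nat_lit 2, nat_lit 3, nat_lit 10, nat_lit 6, nat_lit 9, nat_lit 5, nat_lit 10, nat_lit 6, nat_lit 5, nat_lit 9, nat_lit 8, nat_lit 10, nat_lit 9, nat_lit 5, nat_lit 0, nat_lit 4, nat_lit 3, nat_lit 5, nat_lit 9, nat_lit 1, nat_lit 2, nat_lit 1, nat_lit 0, nat_lit 6, nat_lit 1, nat_lit 2, nat_lit 1, nat_lit 4, nat_lit 1, nat_lit 5, nat_lit 7, nat_lit 8, nat_lit 10, nat_lit 9, nat_lit 7, nat_lit 4, nat_lit 5, nat_lit 0, nat_lit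 4, nat_lit 5, nat_lit 8, nat_lit 9, nat_lit 8, nat_lit 4, nat_lit 3]

end H16.OFi24
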